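import Groth.Agent.Lib.Algz56.Push
import Groth.Agent.Lib.UnifVanish7.Vanish
import Groth.Agent.Lib.Euler.AmpleComponents
import Groth.Agent.Lib.Ample.VanishCriterion
import Groth.Agent.Lib.FormalExist7.Twist
import Groth.Agent.Lib.Euler.CurveVanish
import Groth.Agent.S0003

/-!
# Ampleness can be tested on the closed level over a complete base
-/

set_option autoImplicit false
set_option linter.style.haveILetI false
set_option linter.unusedSectionVars false
universe u

open CategoryTheory CategoryTheory.Limits AlgebraicGeometry Opposite TopologicalSpace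

noncomputable section

namespace GrothLib.Algz56

open GrothLib.UnifVanish7
open GrothLib.FormalFun (toSec)

variable {A : Type u} [CommRing A] [IsNoetherianRing A] {J : Ideal A} {Xs : ℕ → Scheme.{u}}
  [hX : ∀ k, (Xs k).Over (Spec (CommRingCat.of A))]
  {i : (k : ℕ) → (Xs k ⟶ Xs (k + 1))}
  {p : (k : ℕ) → (Xs k ⟶ Spec (CommRingCat.of (A ⧸ J ^ (k + 1))))}
  {Y : Scheme.{u}} [Y.Over (Spec (CommRingCat.of A))] [IsProper (Y ↘ Spec (CommRingCat.of A))]
  {e : ∀ k, Xs k ⟶ Y}
  (h : IsAdicSys J i p) (hp : IsProper (p 0))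
  (hpb : ∀ k, IsPullback (e k) (p k) (Y ↘ Spec (CommRingCat.of A)) (CohB1.specQuot J k))
  (hec : ∀ k, e k = i k ≫ e (k + 1))

include hpb in
/-- A module killed by the power of the ideal of the base is killed by the ideal sheaf of the level. -/
theorem killedByIdeal_level (k : ℕ) {N : Y.Modules} (hN : Formal.KilledBy (J ^ (k + 1)) N) :
    ClSub.KilledByIdeal (e k).ker N := by
  intro U b hb z
  rw [ker_e hpb k U] at hb
  refine Submodule.span_induction (p := fun b _ => ∀ z : Γ(N, U.1), b • z = 0) ?_ (fun z => zero_smul _ z)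
    (fun x y _ _ hx hy z => by rw [add_smul, hx z, hy z, add_zero])
    (fun c x _ hx z => by rw [smul_eq_mul, mul_smul, hx z, smul_zero]) hb z
  rintro _ ⟨a, ha, rfl⟩ z
  refine (Coh.smulAb_app N _ (op U.1) z).symm.trans ?_
  exact congrArg (fun φ : N ⟶ N => φ.app U.1 z) (hN a ha)

include h hp hpb hec

/-- An invertible module on a proper scheme over a complete base is ample if its closed level is. -/
theorem isAmple_of_levels [IsAdicComplete J A] {M : Y.Modules} (hM : PicF.IsInvertible M)
    {L : (k : ℕ) → (Xs k).Modules} (hL : ∀ k, PicF.IsInvertible (L k))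
    (φ : ∀ k, Nonempty ((Scheme.Modules.pullback (i k)).obj (L (k + 1)) ≅ L k)) (ha : CohB1.IsAmple (L 0))
    (ml : ∀ k, Nonempty ((Scheme.Modules.pullback (e k)).obj M ≅ L k)) : CohB1.IsAmple M := by
  haveI := SerreVanish.isNoetherian_of_proper (X := Y) A
  obtain ⟨c, ⟨d⟩⟩ := Ample.exists_cocycle hM
  refine (c.isAmple_iff d).2 ⟨inferInstance, c.isAmp_of_subsingleton_H1 fun T => ?_⟩
  let G := Ample.vMod T
  have hG : Coh.IsCoh G := Euler.isCoh_vMod T
  let F : (k : ℕ) → (Xs k).Modules := fun k => (Scheme.Modules.pullback (e k)).obj G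
  have hF : ∀ k, Coh.IsCoh (F k) := fun k => FormalExist7.isCoh_pullbackMod (e k) hG
  let ψ : ∀ k, (Scheme.Modules.pullback (i k)).obj (F (k + 1)) ≅ F k := fun k =>
    (Scheme.Modules.pullbackComp (i k) (e (k + 1))).app G ≪≫
      (Scheme.Modules.pullbackCongr (hec k).symm).app G
  obtain ⟨n₀, hn₀⟩ := exists_vanish_levels h hp hF hL φ ha ψ
  refine ⟨n₀, subsingleton_of_forall_eq 0 fun x => ?_⟩
  have hlev : ∀ k, Subsingleton (Formal.HHmodPow J (c.modTwist G (n₀ + 1)) 1 k) := by
    intro k
    haveI := isClosedImmersion_e hpb k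
    have hqc : Coh.IsCoh (Formal.modPow J (k + 1) G) := FormalFn.isCoh_cokernel_smulFamily (J ^ (k + 1)) hG
    haveI := hqc.1
    have hq := FormalSys.IsQuot.modPowπ J (k + 1) G
    obtain ⟨u, -⟩ := (FormalSys.IsQuot.modPowπ J (k + 1) (c.modTwist G (n₀ + 1))).exists_iso
      (FormalExist7.isQuot_mtwistMap c hG hq (n₀ + 1))
    have hq' := FormalExist7.isQuot_pullback (e k) (e_struct h hpb k) hq
    haveI := hq'.isIso_of_killedBy (fun a ha => by
      refine Scheme.Modules.hom_ext _ _ fun U => ?_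
      ext m
      refine (Coh.smulAb_app _ _ (op U) m).trans ?_
      exact (congrArg (fun z : Γ(Xs k, U) => z • (show Γ(((Scheme.Modules.pullback (e k)).obj G), U) from m))
        (toSec_eq_zero h k U ha)).trans (zero_smul _ _))
    obtain ⟨g⟩ := ml k
    obtain ⟨f⟩ := nonempty_HH_equiv_of_killed (e k) (Formal.modPow J (k + 1) G)
      (killedByIdeal_level hpb k hq.killedBy) hM g (n₀ + 1) 1
    haveI := (hn₀ (n₀ + 1) (Nat.le_succ n₀) k 1 le_rfl).2
    let t : CohB1.tensorMod ((Scheme.Modules.pullback (e k)).obj (Formal.modPow J (k + 1) G))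
        (CohB1.tensorPow (L k) (n₀ + 1)) ≅ CohB1.tensorMod (F k) (CohB1.tensorPow (L k) (n₀ + 1)) :=
      ((DCoh.tensorBi (X := Xs k)).flip.obj (CohB1.tensorPow (L k) (n₀ + 1))).mapIso
        (asIso ((Scheme.Modules.pullback (e k)).map (Formal.modPowπ J (k + 1) G))).symm
    haveI : Subsingleton (Coh.HH (Xs k) (CohB1.tensorMod
        ((Scheme.Modules.pullback (e k)).obj (Formal.modPow J (k + 1) G))
        (CohB1.tensorPow (L k) (n₀ + 1))) 1) := (Euler.hhEquiv (A := A) t 1).toEquiv.subsingleton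
    haveI := subsingleton_HH_modTwist c d f.subsingleton
    exact (Euler.hhEquiv (A := A) u 1).toEquiv.subsingleton
  exact (Groth.Agent.S0003.result A J Y _ (Euler.isCoh_modTwist c hG (n₀ + 1)) 1).1
    (Subtype.ext (funext fun k => @Subsingleton.elim _ (hlev k) _ _))

end GrothLib.Algz56
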