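import Groth.Agent.Lib.Algz56.Sheaves
import Groth.Agent.Lib.Ample.ProjExt
import Groth.Agent.Lib.Ample.VeryAmple
import Groth.Agent.Lib.Ample.Immersion
import Groth.Agent.Lib.Chow.Prod
import Groth.Agent.Lib.CMReg.StructureMain

/-!
# Sections of a high power of an ample module giving a closed immersion into projective space over the base
-/

set_option autoImplicit false
set_option linter.style.haveILetI false
universe u

open CategoryTheory CategoryTheory.Limits AlgebraicGeometry Opposite TopologicalSpace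

noncomputable section

namespace GrothLib.Algz56

open GrothLib.InvExt (mres IsGen)
open GrothLib.Ample (Cocycle)

variable {X : Scheme.{u}}

theorem inv_hom_app {M N : X.Modules} (e : M ≅ N) (z : ProjUP.Γm M) : e.inv.app ⊤ (e.hom.app ⊤ z) = z :=
  congrArg (fun φ : M ⟶ M => φ.app ⊤ z) e.hom_inv_id

/-- Sections which are local generators near every point generate. -/
theorem generatedBy_of_isGen {M : X.Modules} {ι : Type*} (s : ι → ProjUP.Γm M)
    (h : ∀ y : X, ∃ (j : ι) (U : X.Opens), y ∈ U ∧ IsGen M U (mres M (le_top : U ≤ ⊤) (s j))) :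
    ProjUP.GeneratedBy M s := by
  intro y
  obtain ⟨j, U, hyU, hU⟩ := h y
  refine eq_top_iff.2 fun v _ => ?_
  obtain ⟨O, hy, z, rfl⟩ := TopCat.Presheaf.exists_germ_eq M.presheaf v
  obtain ⟨a, hz⟩ := hU.exists_smul_eq (inf_le_right : O ⊓ U ≤ U) (mres M (inf_le_left : O ⊓ U ≤ O) z)
  rw [InvExt.mres_mres] at hz
  have hy' : y ∈ O ⊓ U := ⟨hy, hyU⟩
  rw [← TopCat.Presheaf.germ_res_apply M.presheaf (homOfLE (inf_le_left : O ⊓ U ≤ O)) y hy' z]
  change M.presheaf.germ (O ⊓ U) y hy' (mres M inf_le_left z) ∈ _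
  rw [hz, WeakAss.germ_smul]
  refine Submodule.smul_mem _ _ (Submodule.subset_span ⟨j, ?_⟩)
  exact (TopCat.Presheaf.germ_res_apply M.presheaf (homOfLE le_top) y hy' (s j)).symm

theorem generatedBy_pullCoord {n : ℕ} {R : Type u} [CommRing R] (r : X ⟶ CohB1.ProjSpace n R) :
    ProjUP.GeneratedBy ((Scheme.Modules.pullback r).obj (Twist.twistProjSpace n R 1))
      (Ample.ProjMap.pullCoord r) := by
  refine generatedBy_of_isGen _ fun y => ?_
  obtain ⟨k, hk⟩ := (Ample.ProjMap.pcoc n R).exists_mem (r y)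
  exact ⟨k.down, _, hk, Ample.ProjMap.isGen_pullCoord r k⟩

theorem generatedBy_coord (n : ℕ) (R : Type u) [CommRing R] :
    ProjUP.GeneratedBy (Twist.twistProjSpace n R 1) (ProjUP.coord n R) := by
  refine generatedBy_of_isGen _ fun y => ?_
  obtain ⟨k, hk⟩ := (Ample.ProjMap.pcoc n R).exists_mem y
  refine ⟨k.down, _, hk, ?_⟩
  refine (congrArg (IsGen _ _) (Ample.ProjMap.mres_coord_self k)).mpr ?_
  exact InvExt.IsGen.map (Ample.ProjMap.pcocIso n R).inv ((Ample.ProjMap.pcoc n R).isGen_base 1 k le_rfl) fun W _ =>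
    ConcreteCategory.bijective_of_isIso ((Ample.ProjMap.pcocIso n R).inv.app W)

/-- Morphisms to projective space from generating sections. -/
theorem exists_toProj {n : ℕ} {R : Type u} [CommRing R] {L : X.Modules} (hL : PicF.IsInvertible L)
    (s : Fin (n + 1) → ProjUP.Γm L) (hs : ProjUP.GeneratedBy L s) (q : X ⟶ Spec (CommRingCat.of R)) :
    ∃ (r : X ⟶ CohB1.ProjSpace n R) (_ : r ≫ CohB1.ProjSpace.toSpec n R = q)
      (τ : (Scheme.Modules.pullback r).obj (Twist.twistProjSpace n R 1) ≅ L),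
      ∀ i, τ.hom.app ⊤ (Ample.ProjMap.pullCoord r i) = s i := by
  obtain ⟨c, ⟨e⟩⟩ := Ample.exists_cocycle hL
  exact Ample.ProjMap.exists_toProjSpace c e s (c.iSup_locus_of_generatedBy e s hs) q

theorem pullCoord_comp {Z : Scheme.{u}} {n : ℕ} {R : Type u} [CommRing R] (g : Z ⟶ X)
    (r : X ⟶ CohB1.ProjSpace n R) (i : Fin (n + 1)) :
    ((Scheme.Modules.pullbackComp g r).hom.app (Twist.twistProjSpace n R 1)).app ⊤
      (ProjUP.pullSec g _ (Ample.ProjMap.pullCoord r i)) = Ample.ProjMap.pullCoord (g ≫ r) i :=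
  pullSec_comp g r _ _

theorem ext_of_sections {n : ℕ} {R : Type u} [CommRing R] (r r' : X ⟶ CohB1.ProjSpace n R)
    (hq : r ≫ CohB1.ProjSpace.toSpec n R = r' ≫ CohB1.ProjSpace.toSpec n R) {L : X.Modules}
    (τ : (Scheme.Modules.pullback r).obj (Twist.twistProjSpace n R 1) ≅ L)
    (τ' : (Scheme.Modules.pullback r').obj (Twist.twistProjSpace n R 1) ≅ L) (s : Fin (n + 1) → ProjUP.Γm L)
    (hτ : ∀ i, τ.hom.app ⊤ (Ample.ProjMap.pullCoord r i) = s i)
    (hτ' : ∀ i, τ'.hom.app ⊤ (Ample.ProjMap.pullCoord r' i) = s i) : r = r' := by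
  refine Ample.ProjMap.ext_of_iso r r' hq (τ ≪≫ τ'.symm) fun i => ?_
  show τ'.inv.app ⊤ (τ.hom.app ⊤ _) = _
  rw [hτ, ← hτ']
  exact congrArg (fun φ : (Scheme.Modules.pullback r').obj (Twist.twistProjSpace n R 1) ⟶ _ =>
    φ.app ⊤ (Ample.ProjMap.pullCoord r' i)) τ'.hom_inv_id

variable (A : Type u) [CommRing A] [X.Over (Spec (CommRingCat.of A))] [IsNoetherianRing A]
  [IsProper (X ↘ Spec (CommRingCat.of A))]

include A in
/-- High powers of an ample module on a proper scheme give closed immersions into projective space over the base. -/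
theorem eventually_closedEmbedding {L : X.Modules} (hL : CohB1.IsAmple L) :
    ∃ m₀ : ℕ, ∀ m, m₀ ≤ m → ∃ (N : ℕ) (r : X ⟶ CohB1.ProjSpace N A)
      (τ : (Scheme.Modules.pullback r).obj (Twist.twistProjSpace N A 1) ≅
        CohB1.tensorMod (Coh.structureModule X) (CohB1.tensorPow L m)),
      IsClosedImmersion r ∧ r ≫ CohB1.ProjSpace.toSpec N A = X ↘ Spec (CommRingCat.of A) ∧
      ProjUP.GeneratedBy (CohB1.tensorMod (Coh.structureModule X) (CohB1.tensorPow L m))
        (fun i => τ.hom.app ⊤ (Ample.ProjMap.pullCoord r i)) := by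
  obtain ⟨c, ⟨e⟩⟩ := Ample.exists_cocycle hL.1
  obtain ⟨c', ⟨e'⟩⟩ := Ample.exists_cocycle (Euler.isInvertible_structure (X := X))
  haveI := hL.2.1
  obtain ⟨n₀, hn₀⟩ := Ample.eventually_isRelVeryAmplePn (X ↘ Spec (CommRingCat.of A)) c c' ((c.isAmple_iff e).1 hL).2
  refine ⟨n₀, fun m hm => ?_⟩
  let T := CohB1.tensorMod (Coh.structureModule X) (CohB1.tensorPow L m)
  obtain ⟨d⟩ := c.nonempty_tensorPow_iso_pow e m
  obtain ⟨d'⟩ := (c.pow m).nonempty_tensorMod_iso_prod c' d e'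
  obtain ⟨N, j, hj, hjf, ⟨θ⟩⟩ := hn₀ m hm
    (L := T) (GrTilde.tensorModComm _ _ ≪≫ d')
  let p₁ := pullback.fst (CohB1.ProjSpace.toSpec N (ULift.{u} ℤ)) (specULiftZIsTerminal.from (Spec (CommRingCat.of A)))
  let θ' : (Scheme.Modules.pullback (j ≫ p₁)).obj (Twist.twistProjSpace N (ULift.{u} ℤ) 1) ≅ T :=
    ((Scheme.Modules.pullbackComp j p₁).app _).symm ≪≫ θ.symm
  let s : Fin (N + 1) → ProjUP.Γm T := fun i => θ'.hom.app ⊤ (Ample.ProjMap.pullCoord (j ≫ p₁) i)
  have hT : PicF.IsInvertible T :=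
    Ample.isInvertible_tensorMod Euler.isInvertible_structure (Ample.isInvertible_tensorPow hL.1 m)
  have hs : ProjUP.GeneratedBy T s := generatedBy_of_iso θ' (generatedBy_pullCoord _)
  obtain ⟨r, hr, τ, hτ⟩ := exists_toProj hT s hs (X ↘ Spec (CommRingCat.of A))
  obtain ⟨π, hπ, ρ, hρ⟩ := exists_toProj (Ample.ProjMap.pcoc N A |>.isInvertible_of_iso (Ample.ProjMap.pcocIso N A))
    (ProjUP.coord N A) (generatedBy_coord N A) (specULiftZIsTerminal.from (CohB1.ProjSpace N A))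
  let G : CohB1.ProjSpace N A ⟶ CohB1.ProjSpaceOver N (Spec (CommRingCat.of A)) :=
    pullback.lift π (CohB1.ProjSpace.toSpec N A) (specULiftZIsTerminal.hom_ext _ _)
  have h1 : r ≫ π = j ≫ p₁ := by
    refine ext_of_sections (r ≫ π) (j ≫ p₁) (specULiftZIsTerminal.hom_ext _ _)
      (((Scheme.Modules.pullbackComp r π).app _).symm ≪≫ (Scheme.Modules.pullback r).mapIso ρ ≪≫ τ) θ' s
      (fun i => ?_) fun i => rfl
    rw [← pullCoord_comp r π i]
    show τ.hom.app ⊤ (((Scheme.Modules.pullback r).map ρ.hom).app ⊤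
      (((Scheme.Modules.pullbackComp r π).inv.app _).app ⊤ (((Scheme.Modules.pullbackComp r π).hom.app _).app ⊤ _))) = _
    refine (congrArg (fun z => τ.hom.app ⊤ (((Scheme.Modules.pullback r).map ρ.hom).app ⊤ z))
      (inv_hom_app ((Scheme.Modules.pullbackComp r π).app (Twist.twistProjSpace N (ULift.{u} ℤ) 1)) _)).trans ?_
    exact (congrArg (τ.hom.app ⊤) ((pullSec_natural r ρ.hom _).trans (congrArg (ProjUP.pullSec r _) (hρ i)))).trans
      (hτ i)
  have hG : r ≫ G = j :=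
    pullback.hom_ext ((Category.assoc _ _ _).trans ((congrArg (r ≫ ·) (pullback.lift_fst _ _ _)).trans h1))
      ((Category.assoc _ _ _).trans ((congrArg (r ≫ ·) (pullback.lift_snd _ _ _)).trans (hr.trans hjf.symm)))
  haveI : IsImmersion (r ≫ G) := hG.symm ▸ hj
  haveI : IsImmersion r := IsImmersion.of_comp r G
  haveI := GrothLib.Chow.isProper_toSpec N A
  haveI : IsProper (r ≫ CohB1.ProjSpace.toSpec N A) := hr.symm ▸ inferInstance
  haveI : IsProper r := IsProper.of_comp r (CohB1.ProjSpace.toSpec N A)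
  refine ⟨N, r, τ, IsClosedImmersion.of_isPreimmersion r r.isClosedMap.isClosed_range, hr, ?_⟩
  exact (funext hτ : (fun i => τ.hom.app ⊤ (Ample.ProjMap.pullCoord r i)) = s) ▸ hs

end GrothLib.Algz56
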