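import Groth.Agent.Lib.Algz56.Push
import Groth.Agent.Lib.Ref1.Frame
import Groth.Agent.Lib.InvExt.Gen
import Groth.Agent.Lib.DeformIso.Basic

/-!
# A coherent module with invertible levels is invertible
-/

set_option autoImplicit false
set_option linter.style.haveILetI false
set_option linter.unusedSectionVars false
universe u

open CategoryTheory CategoryTheory.Limits AlgebraicGeometry Opposite TopologicalSpace

noncomputable section

namespace GrothLib.Algz56

open GrothLib.UnifVanish7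
open GrothLib.FormalFun (toSec toStalk)
open GrothLib.QCoh (stalkLin pushStalkHom)

variable {A : Type u} [CommRing A] [IsNoetherianRing A] {J : Ideal A} {Xs : ℕ → Scheme.{u}}
  [hX : ∀ k, (Xs k).Over (Spec (CommRingCat.of A))]
  {i : (k : ℕ) → (Xs k ⟶ Xs (k + 1))}
  {p : (k : ℕ) → (Xs k ⟶ Spec (CommRingCat.of (A ⧸ J ^ (k + 1))))}
  {Y : Scheme.{u}} [Y.Over (Spec (CommRingCat.of A))] [IsProper (Y ↘ Spec (CommRingCat.of A))]
  {e : ∀ k, Xs k ⟶ Y}
  (hpb : ∀ k, IsPullback (e k) (p k) (Y ↘ Spec (CommRingCat.of A)) (CohB1.specQuot J k))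
  (hec : ∀ k, e k = i k ≫ e (k + 1))

include hpb in
/-- Closed points lie on the closed level. -/
theorem mem_range_of_isClosed [IsAdicComplete J A] {y : Y} (hy : IsClosed ({y} : Set Y)) :
    y ∈ Set.range (e 0) := by
  let g := Y ↘ Spec (CommRingCat.of A)
  have hc : IsClosed ({g y} : Set (Spec (CommRingCat.of A))) := by
    rw [← Set.image_singleton]
    exact g.isClosedMap _ hy
  haveI hmax : (g y).asIdeal.IsMaximal := (PrimeSpectrum.isClosed_singleton_iff_isMaximal (g y)).1 hc
  have hJ : J ≤ (g y).asIdeal :=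
    (IsAdicComplete.le_jacobson_bot J).trans (sInf_le ⟨bot_le, hmax⟩)
  have hmem : g y ∈ Set.range (CohB1.specQuot J 0) := by
    rw [CohB1.specQuot, Spec.map_base]
    exact (range_comap_of_surjective _ (Ideal.Quotient.mk (J ^ (0 + 1)))
      Ideal.Quotient.mk_surjective).symm ▸ (show (PrimeSpectrum.zeroLocus _) (g y) from by
        show (RingHom.ker (Ideal.Quotient.mk (J ^ (0 + 1))) : Set A) ⊆ (g y).asIdeal
        rw [Ideal.mk_ker, zero_add, pow_one]
        exact hJ)
  obtain ⟨z, hz⟩ := (Scheme.Pullback.range_fst g (CohB1.specQuot J 0)).ge hmem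
  refine ⟨(hpb 0).isoPullback.inv z, ?_⟩
  rw [← hz, ← (hpb 0).isoPullback_inv_fst]
  rfl

include hec in
theorem e_bot (x : Xs 0) : ∀ k, e k (bot i k x) = e 0 x
  | 0 => rfl
  | k + 1 => by
    rw [← e_bot x k, hec k]
    rfl

variable {L : (k : ℕ) → (Xs k).Modules} (hL : ∀ k, PicF.IsInvertible (L k))
  {M : Y.Modules} (hM : Coh.IsCoh M)
  (π : ∀ k, M ⟶ (Scheme.Modules.pushforward (e k)).obj (L k)) (hπ : ∀ k, FormalSys.IsQuot (J ^ (k + 1)) (π k))

include hpb hec hL hM hπ

theorem exists_generator (x : Xs 0) :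
    ∃ v : M.presheaf.stalk (e 0 x),
      Function.Bijective (LinearMap.toSpanSingleton (Y.presheaf.stalk (e 0 x)) _ v) := by
  haveI := SerreVanish.isNoetherian_of_proper (X := Y) A
  haveI := hM.1
  let R := Y.presheaf.stalk (e 0 x)
  have key : ∀ (k : ℕ) (z : Xs k), e k z = e 0 x →
      ∃ (N : ModuleCat.{u} ((Xs k).presheaf.stalk z)) (σ : R →+* (Xs k).presheaf.stalk z)
        (b : Module.Basis (Fin 1) ((Xs k).presheaf.stalk z) N) (Φ : M.presheaf.stalk (e 0 x) →+ N),
        Function.Surjective Φ ∧ Function.Surjective σ ∧ (∀ (r : R) m, Φ (r • m) = σ r • Φ m) ∧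
        RingHom.ker σ = (J ^ (k + 1)).map (toStalk A (e 0 x)) ∧
        ∀ m, Φ m = 0 → m ∈ (J ^ (k + 1)).map (toStalk A (e 0 x)) •
          (⊤ : Submodule R (M.presheaf.stalk (e 0 x))) := by
    intro k z hz
    haveI := isClosedImmersion_e hpb k
    haveI := (hπ k).epi
    revert hz
    suffices ∀ y, e k z = y → ∃ (N : ModuleCat.{u} ((Xs k).presheaf.stalk z))
        (σ : Y.presheaf.stalk y →+* (Xs k).presheaf.stalk z)
        (b : Module.Basis (Fin 1) ((Xs k).presheaf.stalk z) N) (Φ : M.presheaf.stalk y →+ N),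
        Function.Surjective Φ ∧ Function.Surjective σ ∧ (∀ (r : Y.presheaf.stalk y) m, Φ (r • m) = σ r • Φ m) ∧
        RingHom.ker σ = (J ^ (k + 1)).map (toStalk A y) ∧
        ∀ m, Φ m = 0 → m ∈ (J ^ (k + 1)).map (toStalk A y) •
          (⊤ : Submodule (Y.presheaf.stalk y) (M.presheaf.stalk y)) from this _
    rintro y rfl
    obtain ⟨D, fr, hz, hfr⟩ := FinCov.exists_frame_nhd_of_rank (Euler.isFinLocFreeOfRank_one' (hL k)) z
    obtain ⟨b⟩ := Euler.stalk_basis_of_frame hfr hz
    have hb := QCoh.pushStalkHom_bijective (e k) z (L k) (Scheme.Hom.isClosedEmbedding (e k)).isInducing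
    refine ⟨ModuleCat.of _ ((L k).presheaf.stalk z), ((e k).stalkMap z).hom, b,
      (pushStalkHom (e k) z (L k)).hom.toAddMonoidHom.comp (stalkLin (π k) (e k z)).toAddMonoidHom,
      hb.2.comp (QCoh.stalkLin_surjective (π k) _), (e k).stalkMap_surjective z, fun r m => ?_, ?_, fun m hm => ?_⟩
    · exact (congrArg (pushStalkHom (e k) z (L k)).hom ((stalkLin (π k) (e k z)).map_smul r m)).trans
        ((pushStalkHom (e k) z (L k)).hom.map_smul r _)
    · obtain ⟨U, hU, hzU, -⟩ := exists_isAffineOpen_mem_and_subset (Opens.mem_top (e k z))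
      rw [RegSeqLoc.ker_stalkMap (e k) z ⟨U, hU⟩ hzU, ker_e hpb k ⟨U, hU⟩, Ideal.map_map]
      congr 1
      exact RingHom.ext fun c => FormalFun.germ_toSec hzU c
    · have h0 : stalkLin (π k) (e k z) m = 0 := hb.1 (hm.trans (map_zero _).symm)
      exact (FormalFun.ker_stalkLin_of_isQuot (hπ k) (e k z)).le h0
  choose N σ b Φ hΦs hσs hΦl hσk hΦk using fun k => key k (bot i k x) (e_bot hec x k)
  obtain ⟨v, hv⟩ := hΦs 0 (b 0 0)
  have hnt : (J ^ (0 + 1)).map (toStalk A (e 0 x)) ≠ ⊤ := (hσk 0) ▸ RingHom.ker_ne_top (σ 0)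
  haveI hfin : Module.Finite R (M.presheaf.stalk (e 0 x)) := QCoh.stalk_finite M hM (e 0 x)
  have hspan : ⊤ ≤ Submodule.span R {v} := by
    refine Submodule.le_of_le_smul_of_le_jacobson_bot Module.Finite.fg_top
      ((IsLocalRing.le_maximalIdeal hnt).trans (IsLocalRing.maximalIdeal_le_jacobson ⊥)) fun w _ => ?_
    obtain ⟨r, hr⟩ := hσs 0 ((b 0).repr (Φ 0 w) 0)
    refine Submodule.mem_sup.2 ⟨r • v, Submodule.smul_mem _ r (Submodule.subset_span rfl), w - r • v,
      hΦk 0 _ ?_, add_sub_cancel _ _⟩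
    rw [map_sub, hΦl, hv, hr, sub_eq_zero]
    conv_lhs => rw [← (b 0).sum_repr (Φ 0 w), Fin.sum_univ_one]
  refine ⟨v, (injective_iff_map_eq_zero _).2 fun r hr => ?_, fun w => ?_⟩
  swap
  · exact Submodule.mem_span_singleton.1 (hspan (Submodule.mem_top (x := w)))
  have hr' : r • v = 0 := hr
  have hmem : ∀ k, r ∈ ((J ^ (0 + 1)).map (toStalk A (e 0 x))) ^ k
    | 0 => by rw [pow_zero, Ideal.one_eq_top]; exact Submodule.mem_top
    | k + 1 => by
      rw [zero_add, pow_one, ← Ideal.map_pow, ← hσk k, RingHom.mem_ker]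
      obtain ⟨w, hw⟩ := hΦs k (b k 0)
      obtain ⟨r', rfl⟩ := Submodule.mem_span_singleton.1 (hspan (Submodule.mem_top (x := w)))
      rw [hΦl] at hw
      have h1 := congrArg (fun t => σ k r • t) hw
      dsimp only at h1
      rw [smul_smul, mul_comm, ← smul_smul, ← hΦl k r, hr', map_zero, smul_zero] at h1
      have h2 := congrArg (fun t => (b k).repr t 0) h1
      simp at h2
      exact h2.symm
  have hbot := Ideal.iInf_pow_eq_bot_of_isLocalRing _ hnt
  exact (Submodule.mem_bot _).1 (hbot.le (Submodule.mem_iInf _ |>.2 hmem))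

/-- A coherent module with invertible levels is invertible. -/
theorem isInvertible_of_levels [IsAdicComplete J A] : PicF.IsInvertible M := by
  haveI := SerreVanish.isNoetherian_of_proper (X := Y) A
  refine InvExt.isInvertible_of_gens fun z => ?_
  obtain ⟨y, hyz, hy⟩ := (isClosed_closure (s := ({z} : Set Y))).exists_closed_singleton
    (closure_nonempty_iff.2 (Set.singleton_nonempty z))
  obtain ⟨x, rfl⟩ := mem_range_of_isClosed hpb hy
  obtain ⟨v, hv⟩ := exists_generator hpb hec hL hM π hπ x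
  let ε := LinearEquiv.ofBijective _ hv
  obtain ⟨U, n, fr, hxU, hfr⟩ := Ref1.exists_frame_of_free (HomSh.hasRel_of_isCoh hM) (Module.Free.of_equiv ε)
  let δ := (LinearEquiv.ofBijective _ (Ref1.stalk_of_isFrame hfr _ hxU)).trans ε.symm
  obtain rfl : n = 1 := by
    have := δ.finrank_eq
    rwa [Module.finrank_fin_fun, Module.finrank_self] at this
  exact ⟨U, fr 0, (specializes_iff_mem_closure.2 hyz).mem_open U.2 hxU, (InvExt.isGen_iff_isFrame fr).1 hfr⟩

end GrothLib.Algz56
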