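import Groth.Agent.Lib.Algz56.Sheaves
import Groth.Agent.Lib.UnifVanish7.Graded
import Groth.Agent.Lib.FormalExist7.Ample

/-!
# Algebraization of compatible coherent modules on the levels of a projective scheme
-/

set_option autoImplicit false
set_option linter.style.haveILetI false
set_option linter.unusedSectionVars false
universe u

open CategoryTheory CategoryTheory.Limits AlgebraicGeometry Opposite TopologicalSpace

noncomputable section

namespace GrothLib.Algz56

open GrothLib.UnifVanish7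
open GrothLib.FormalFun (toSec toStalk)

variable {A : Type u} [CommRing A] [IsNoetherianRing A] {J : Ideal A} {Xs : ℕ → Scheme.{u}}
  [hX : ∀ k, (Xs k).Over (Spec (CommRingCat.of A))]
  {i : (k : ℕ) → (Xs k ⟶ Xs (k + 1))}
  {p : (k : ℕ) → (Xs k ⟶ Spec (CommRingCat.of (A ⧸ J ^ (k + 1))))}
  {Y : Scheme.{u}} [Y.Over (Spec (CommRingCat.of A))] {e : ∀ k, Xs k ⟶ Y}
  (h : IsAdicSys J i p) (hp : IsProper (p 0))
  (hpb : ∀ k, IsPullback (e k) (p k) (Y ↘ Spec (CommRingCat.of A)) (CohB1.specQuot J k))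
  (hec : ∀ k, e k = i k ≫ e (k + 1))

include h hpb in
theorem e_struct (k : ℕ) : e k ≫ (Y ↘ Spec (CommRingCat.of A)) = Xs k ↘ Spec (CommRingCat.of A) :=
  (hpb k).w.trans (h.struct k).symm

include hpb in
theorem isClosedImmersion_e (k : ℕ) : IsClosedImmersion (e k) :=
  isClosedImmersion_of_square _ Ideal.Quotient.mk_surjective (hpb k)

include hpb in
theorem ker_e (k : ℕ) (U : Y.affineOpens) : (e k).ker.ideal U = (J ^ (k + 1)).map (toSec A U.1) := by
  rw [ideal_ker_of_square _ Ideal.Quotient.mk_surjective (hpb k), Ideal.mk_ker]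

include h hpb in
theorem app_toSec (k : ℕ) (U : Y.Opens) (a : A) :
    (e k).app U (toSec A U a) = toSec A (e k ⁻¹ᵁ U) a := by
  show (e k).app U (Y.presheaf.map (homOfLE (le_top : U ≤ ⊤)).op (Coh.toGlobal (Y ↘ Spec (CommRingCat.of A)) a)) =
    (Xs k).presheaf.map (homOfLE (le_top : e k ⁻¹ᵁ U ≤ ⊤)).op (Coh.toGlobal (Xs k ↘ Spec (CommRingCat.of A)) a)
  refine (ConcreteCategory.congr_hom ((e k).naturality (homOfLE (le_top : U ≤ ⊤)).op) _).trans ?_
  rw [← e_struct h hpb k]
  rfl

variable {F : (k : ℕ) → (Xs k).Modules} (hF : ∀ k, Coh.IsCoh (F k))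
  (ψ : ∀ k, (Scheme.Modules.pullback (i k)).obj (F (k + 1)) ≅ F k)

/-- The transition maps of the direct images. -/
def pushTau (k : ℕ) :
    (Scheme.Modules.pushforward (e (k + 1))).obj (F (k + 1)) ⟶ (Scheme.Modules.pushforward (e k)).obj (F k) :=
  (Scheme.Modules.pushforward (e (k + 1))).map (rho ψ k) ≫
    (Scheme.Modules.pushforwardComp (i k) (e (k + 1))).hom.app (F k) ≫
      (Scheme.Modules.pushforwardCongr (hec k).symm).hom.app (F k)

/-- The system of the direct images of the levels. -/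
def pushSys : ℕᵒᵖ ⥤ Y.Modules :=
  Functor.ofOpSequence (X := fun k => (Scheme.Modules.pushforward (e k)).obj (F k)) (fun k => pushTau hec ψ k)

include h hpb in
theorem killedBy_push (k : ℕ) (M : (Xs k).Modules) :
    Formal.KilledBy (J ^ (k + 1)) ((Scheme.Modules.pushforward (e k)).obj M) := by
  intro a ha
  rw [smulMod_push (e k) (e_struct h hpb k)]
  refine (congrArg (Scheme.Modules.pushforward (e k)).map ?_).trans (Functor.map_zero _ _ _)
  refine Scheme.Modules.hom_ext _ _ fun U => ?_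
  ext m
  refine (Coh.smulAb_app M _ (op U) m).trans ?_
  exact (congrArg (fun z : Γ(Xs k, U) => z • (show Γ(M, U) from m)) (toSec_eq_zero h k U ha)).trans (zero_smul _ _)

include h hp hpb hF in
theorem isQuot_pushTau [IsLocallyNoetherian Y] (k : ℕ) :
    FormalSys.IsQuot (J ^ (k + 1)) (pushTau hec ψ k) := by
  haveI := isClosedImmersion_i h k
  haveI := isClosedImmersion_e hpb (k + 1)
  haveI := (hF (k + 1)).1
  haveI := (isCoh_push h hp hF k (hF k)).1
  haveI := epi_rho h hp hF ψ k
  haveI := epi_push (e (k + 1)) (rho ψ k)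
  haveI : Epi (pushTau hec ψ k) := by unfold pushTau; exact epi_comp _ _
  refine FormalExist7.isQuot_of_stalk _ (killedBy_push h hpb k _) fun y v hv => ?_
  refine ker_stalkLin_of_sections (pushTau hec ψ k) (J ^ (k + 1)) (fun U m hm => ?_) y hv
  let T := (Scheme.Modules.pushforwardComp (i k) (e (k + 1))).hom.app (F k) ≫
    (Scheme.Modules.pushforwardCongr (hec k).symm).hom.app (F k)
  haveI : IsIso T := IsIso.comp_isIso' inferInstance inferInstance
  have h0 : (rho ψ k).app (e (k + 1) ⁻¹ᵁ U.1) m = 0 :=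
    Cohom.app_injective_of_mono T U.1 (show T.app U.1 ((rho ψ k).app (e (k + 1) ⁻¹ᵁ U.1) m) = T.app U.1 0 from
      hm.trans (map_zero _).symm)
  rw [rho_eq_zero_iff h hp hF ψ k ⟨_, U.2.preimage (e (k + 1))⟩] at h0
  let G := (Scheme.Modules.pushforward (e (k + 1))).obj (F (k + 1))
  let S : Submodule Γ(Y, U.1) Γ(G, U.1) := (J ^ (k + 1)).map (toSec A U.1) • ⊤
  let Q : Γ(F (k + 1), e (k + 1) ⁻¹ᵁ U.1) → Prop := fun z => (show Γ(G, U.1) from z) ∈ S
  show m ∈ S
  refine Submodule.smul_induction_on (p := Q) h0 (fun b hb x _ => ?_)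
    (fun x x' hx hx' => S.add_mem hx hx')
  refine Submodule.span_induction (p := fun b _ => ∀ x : Γ(F (k + 1), e (k + 1) ⁻¹ᵁ U.1),
    Q (b • x)) ?_ (fun x => ?_) (fun b b' _ _ hb hb' x => ?_)
    (fun c b _ hb x => ?_) hb x
  · rintro _ ⟨a, ha, rfl⟩ x
    have : toSec A U.1 a • (show Γ(G, U.1) from x) ∈ S :=
      Submodule.smul_mem_smul (Ideal.mem_map_of_mem _ ha) trivial
    rw [← app_toSec h hpb (k + 1) U.1 a]
    exact this
  · exact (congrArg Q (zero_smul _ x)).mpr S.zero_mem
  · exact (congrArg Q (add_smul b b' x)).mpr (S.add_mem (hb x) (hb' x))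
  · exact (congrArg Q ((congrArg (· • x) ((smul_eq_mul c b).trans (mul_comm c b))).trans (mul_smul b c x))).mpr
      (hb (c • x))

variable [IsProper (Y ↘ Spec (CommRingCat.of A))]

include h hp hpb hF in
theorem isCohFormal_pushSys : Formal.IsCohFormal J (pushSys hec ψ) := by
  haveI := SerreVanish.isNoetherian_of_proper (X := Y) A
  refine ⟨fun k => ?_, fun k => killedBy_push h hpb k (F k), fun k => ?_⟩
  · haveI := isClosedImmersion_e hpb k
    exact FormalExist7.isCoh_pushforward (e k) (hF k)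
  · have e1 : (pushSys hec ψ).map (homOfLE (Nat.le_succ k)).op = pushTau hec ψ k :=
      Functor.ofOpSequence_map_homOfLE_succ
        (X := fun k => (Scheme.Modules.pushforward (e k)).obj (F k)) (fun k => pushTau hec ψ k) k
    rw [e1]
    exact isQuot_pushTau h hp hpb hec hF ψ k

include h hp hpb hec hF ψ in
/-- Compatible coherent modules on the levels come from a coherent module. -/
theorem exists_algebraization_module [IsAdicComplete J A] {Lo : Y.Modules} (hLo : CohB1.IsAmple Lo) :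
    ∃ M : Y.Modules, Coh.IsCoh M ∧ ∀ k, Nonempty ((Scheme.Modules.pullback (e k)).obj M ≅ F k) ∧
      ∃ π : M ⟶ (Scheme.Modules.pushforward (e k)).obj (F k), FormalSys.IsQuot (J ^ (k + 1)) π := by
  obtain ⟨M, hM, ⟨θ⟩⟩ := FormalExist7.existence_of_isAmple hLo J _ (isCohFormal_pushSys h hp hpb hec hF ψ)
  refine ⟨M, hM, fun k => ?_⟩
  haveI := isClosedImmersion_e hpb k
  haveI := (hF k).1
  let π : M ⟶ (Scheme.Modules.pushforward (e k)).obj (F k) := Formal.modPowπ J (k + 1) M ≫ θ.hom.app (op k)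
  haveI : IsIso (θ.hom.app (op k)) := (θ.app (op k)).isIso_hom
  have hπ : FormalSys.IsQuot (J ^ (k + 1)) π :=
    @FormalSys.IsQuot.comp_isIso _ _ _ _ _ _ _ _ _ (FormalSys.IsQuot.modPowπ J (k + 1) M) (θ.hom.app (op k)) ‹_›
  have hq := FormalExist7.isQuot_pullback (e k) (e_struct h hpb k) hπ
  haveI := hq.isIso_of_killedBy (fun a ha => by
    refine Scheme.Modules.hom_ext _ _ fun U => ?_
    ext m
    refine (Coh.smulAb_app _ _ (op U) m).trans ?_
    exact (congrArg (fun z : Γ(Xs k, U) => z • (show Γ(((Scheme.Modules.pullback (e k)).obj M), U) from m))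
      (toSec_eq_zero h k U ha)).trans (zero_smul _ _))
  haveI := isIso_counit_closed (e k) (F k)
  exact ⟨⟨asIso ((Scheme.Modules.pullback (e k)).map π) ≪≫
    asIso ((Scheme.Modules.pullbackPushforwardAdjunction (e k)).counit.app (F k))⟩, π, hπ⟩

end GrothLib.Algz56
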