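import Groth.Agent.Lib.UnifVanish7.Spanned
import Groth.Agent.Lib.UnifVanish7.Transfer
import Groth.Agent.Lib.Euler.TensorSupport
import Groth.Agent.Lib.FormalExist7.Projective
import Groth.Prelude.Def_ProjUP
import Mathlib.RingTheory.FiniteType

/-!
# General lemmas on sheaves of modules used in algebraization
-/

set_option autoImplicit false
set_option linter.style.haveILetI false
universe u

open CategoryTheory CategoryTheory.Limits AlgebraicGeometry Opposite TopologicalSpace

noncomputable section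

namespace GrothLib.Algz56

open GrothLib.FormalFun (toSec toStalk)
open GrothLib.QCoh (stalkLin appLinear)
open GrothLib.InvExt (mres)

/-- The unit of pullback and pushforward along a composite. -/
theorem unit_pullbackComp {X Y Z : Scheme.{u}} (f : X ⟶ Y) (g : Y ⟶ Z) (M : Z.Modules) :
    (Scheme.Modules.pullbackPushforwardAdjunction g).unit.app M ≫ (Scheme.Modules.pushforward g).map
      ((Scheme.Modules.pullbackPushforwardAdjunction f).unit.app ((Scheme.Modules.pullback g).obj M) ≫
        (Scheme.Modules.pushforward f).map ((Scheme.Modules.pullbackComp f g).hom.app M)) =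
      (Scheme.Modules.pullbackPushforwardAdjunction (f ≫ g)).unit.app M := by
  have h := unit_conjugateEquiv
    ((Scheme.Modules.pullbackPushforwardAdjunction g).comp (Scheme.Modules.pullbackPushforwardAdjunction f))
    (Scheme.Modules.pullbackPushforwardAdjunction (f ≫ g)) (Scheme.Modules.pullbackComp f g).inv M
  rw [Scheme.Modules.conjugateEquiv_pullbackComp_inv, Adjunction.comp_unit_app] at h
  have h' := congrArg (fun t => t ≫ (Scheme.Modules.pushforward (f ≫ g)).map
    ((Scheme.Modules.pullbackComp f g).hom.app M)) h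
  simp only [Category.assoc] at h'
  rw [← Functor.map_comp, Iso.inv_hom_id_app] at h'
  refine Eq.trans ?_ (h'.trans ((congrArg (fun t => _ ≫ t) ((Scheme.Modules.pushforward (f ≫ g)).map_id _)).trans
    (Category.comp_id _)))
  rw [Functor.map_comp]
  rfl

theorem pullSec_comp {X Y Z : Scheme.{u}} (f : X ⟶ Y) (g : Y ⟶ Z) (M : Z.Modules) (s : ProjUP.Γm M) :
    ((Scheme.Modules.pullbackComp f g).hom.app M).app ⊤
      (ProjUP.pullSec f ((Scheme.Modules.pullback g).obj M) (ProjUP.pullSec g M s)) =
      ProjUP.pullSec (f ≫ g) M s :=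
  congrArg (fun φ : M ⟶ (Scheme.Modules.pushforward (f ≫ g)).obj ((Scheme.Modules.pullback (f ≫ g)).obj M) =>
    φ.app ⊤ s) (unit_pullbackComp f g M)

theorem pullSec_natural {X Y : Scheme.{u}} (f : X ⟶ Y) {M N : Y.Modules} (φ : M ⟶ N) (s : ProjUP.Γm M) :
    ((Scheme.Modules.pullback f).map φ).app ⊤ (ProjUP.pullSec f M s) = ProjUP.pullSec f N (φ.app ⊤ s) :=
  (congrArg (fun ψ : M ⟶ (Scheme.Modules.pushforward f).obj ((Scheme.Modules.pullback f).obj N) => ψ.app ⊤ s)
    ((Scheme.Modules.pullbackPushforwardAdjunction f).unit.naturality φ)).symm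

section Span

variable {X : Scheme.{u}}

theorem generatedBy_of_iso {M N : X.Modules} (e : M ≅ N) {ι : Type*} {s : ι → ProjUP.Γm M}
    (hs : ProjUP.GeneratedBy M s) : ProjUP.GeneratedBy N fun i => e.hom.app ⊤ (s i) := fun y => by
  refine eq_top_iff.2 fun v _ => ?_
  obtain ⟨w, rfl⟩ := QCoh.stalkLin_surjective e.hom y v
  have hw : w ∈ Submodule.span (X.presheaf.stalk y) (Set.range fun i => M.presheaf.germ ⊤ y trivial (s i)) :=
    (hs y).symm ▸ Submodule.mem_top
  have hle : (Submodule.span (X.presheaf.stalk y) (Set.range fun i => M.presheaf.germ ⊤ y trivial (s i))).map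
      (stalkLin e.hom y) ≤ Submodule.span (X.presheaf.stalk y)
        (Set.range fun i => N.presheaf.germ ⊤ y trivial (e.hom.app ⊤ (s i))) := ?_
  · exact hle ⟨w, hw, rfl⟩
  rw [Submodule.map_span, Submodule.span_le]
  rintro _ ⟨_, ⟨i, rfl⟩, rfl⟩
  exact Submodule.subset_span ⟨i, (QCoh.stalkLin_germ e.hom (U := ⊤) trivial (s i)).symm⟩

/-- A lift of generating sections through a map with infinitesimal kernel generates. -/
theorem generatedBy_of_map {M N : X.Modules} (τ : M ⟶ N) {ι : Type*} (s : ι → ProjUP.Γm M)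
    (hN : ProjUP.GeneratedBy N fun i => τ.app ⊤ (s i)) (I : (y : X) → Ideal (X.presheaf.stalk y))
    (hI : ∀ y, IsNilpotent (I y))
    (hker : ∀ y, LinearMap.ker (stalkLin τ y) ≤ I y • (⊤ : Submodule (X.presheaf.stalk y) (M.presheaf.stalk y))) :
    ProjUP.GeneratedBy M s := by
  intro y
  refine top_le_iff.1 (Neutral.le_of_le_sup_smul (hI y) ?_)
  intro v _
  have h1 : Submodule.span (X.presheaf.stalk y) (Set.range fun i => N.presheaf.germ ⊤ y trivial (τ.app ⊤ (s i))) ≤
      (Submodule.span (X.presheaf.stalk y) (Set.range fun i => M.presheaf.germ ⊤ y trivial (s i))).map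
        (stalkLin τ y) := by
    rw [Submodule.map_span]
    refine Submodule.span_mono ?_
    rintro _ ⟨i, rfl⟩
    exact ⟨_, ⟨i, rfl⟩, QCoh.stalkLin_germ τ (U := ⊤) trivial (s i)⟩
  obtain ⟨w, hw, he⟩ := h1 ((hN y).symm ▸ Submodule.mem_top : stalkLin τ y v ∈ _)
  rw [← sub_add_cancel v w, add_comm]
  exact Submodule.add_mem_sup hw (hker y (by rw [LinearMap.mem_ker, map_sub, he, sub_self]))

/-- Generating sections push forward along a surjective closed immersion to generating sections. -/
theorem generatedBy_push {Z : Scheme.{u}} (e : Z ⟶ X) [IsClosedImmersion e] [Surjective e] {N : Z.Modules}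
    {ι : Type*} (s : ι → ProjUP.Γm N) (hN : ProjUP.GeneratedBy N s) :
    ProjUP.GeneratedBy ((Scheme.Modules.pushforward e).obj N) s := by
  intro x
  obtain ⟨y, rfl⟩ := e.surjective x
  refine eq_top_iff.2 fun v _ => ?_
  have hb := QCoh.pushStalkHom_bijective e y N (Scheme.Hom.isClosedEmbedding e).isInducing
  have key : ∀ a ∈ Submodule.span (Z.presheaf.stalk y) (Set.range fun i => N.presheaf.germ ⊤ y trivial (s i)),
      ∃ w ∈ Submodule.span (X.presheaf.stalk (e y))
        (Set.range fun i => ((Scheme.Modules.pushforward e).obj N).presheaf.germ ⊤ (e y) trivial (s i)),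
      (QCoh.pushStalkHom e y N).hom w = a := by
    intro a ha
    induction ha using Submodule.span_induction with
    | mem z hz =>
      obtain ⟨i, rfl⟩ := hz
      exact ⟨_, Submodule.subset_span ⟨i, rfl⟩, QCoh.pushStalkHom_germ e y N ⊤ trivial (s i)⟩
    | zero => exact ⟨0, Submodule.zero_mem _, map_zero _⟩
    | add a b _ _ ha hb =>
      obtain ⟨a', ha', rfl⟩ := ha
      obtain ⟨b', hb', rfl⟩ := hb
      exact ⟨a' + b', Submodule.add_mem _ ha' hb', map_add _ _ _⟩
    | smul r a _ ha =>
      obtain ⟨a', ha', rfl⟩ := ha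
      obtain ⟨r', rfl⟩ := e.stalkMap_surjective y r
      exact ⟨r' • a', Submodule.smul_mem _ _ ha', (QCoh.pushStalkHom e y N).hom.map_smul r' a'⟩
  obtain ⟨w, hw, he⟩ := key ((QCoh.pushStalkHom e y N).hom v) ((hN y).symm ▸ Submodule.mem_top)
  exact hb.1 he ▸ hw

/-- If sections killed by `φ` on affine opens are multiples by `J`, so are killed stalk elements. -/
theorem ker_stalkLin_of_sections {A : Type u} [CommRing A] [X.Over (Spec (CommRingCat.of A))] {M N : X.Modules}
    (φ : M ⟶ N) (J : Ideal A)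
    (h : ∀ (U : X.affineOpens) (m : Γ(M, U.1)), φ.app U.1 m = 0 →
      m ∈ J.map (toSec A U.1) • (⊤ : Submodule Γ(X, U.1) Γ(M, U.1))) (y : X) :
    LinearMap.ker (stalkLin φ y) ≤
      J.map (toStalk A y) • (⊤ : Submodule (X.presheaf.stalk y) (M.presheaf.stalk y)) := by
  intro v hv
  rw [LinearMap.mem_ker] at hv
  obtain ⟨O, hy, z, rfl⟩ := TopCat.Presheaf.exists_germ_eq M.presheaf v
  rw [QCoh.stalkLin_germ] at hv
  obtain ⟨W₀, hyW₀, i₁, i₂, he⟩ := TopCat.Presheaf.germ_eq N.presheaf y hy hy _ _
    (hv.trans (map_zero (N.presheaf.germ O y hy).hom).symm)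
  obtain ⟨_, ⟨W, hW, rfl⟩, hyW, hWle⟩ :=
    X.isBasis_affineOpens.exists_subset_of_mem_open (show y ∈ W₀ from hyW₀) W₀.2
  have hWO : W ≤ O := fun w hw => i₁.le (hWle hw)
  rw [← TopCat.Presheaf.germ_res_apply M.presheaf (homOfLE hWO) y hyW z]
  refine FormalFun.germ_mem_of_mem hyW J (h ⟨W, hW⟩ _ ?_)
  change φ.app W (mres M hWO z) = 0
  rw [Ample.app_mres]
  have h1 := congrArg (mres N (show W ≤ W₀ from hWle)) he
  change mres N _ (mres N i₁.le _) = mres N _ (mres N _ _) at h1
  rw [InvExt.mres_mres, InvExt.mres_mres] at h1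
  exact h1.trans (map_zero _)

/-- An epimorphism of invertible modules is an isomorphism. -/
theorem isIso_of_epi_invertible {M N : X.Modules} (hM : PicF.IsInvertible M) (hN : PicF.IsInvertible N)
    (φ : M ⟶ N) [Epi φ] : IsIso φ := by
  refine (OX.isIso_iff φ).2 fun x => (ConcreteCategory.isIso_iff_bijective _).2 ?_
  obtain ⟨D, e, hx, he⟩ := FinCov.exists_frame_nhd_of_rank (Euler.isFinLocFreeOfRank_one' hM) x
  obtain ⟨b⟩ := Euler.stalk_basis_of_frame he hx
  obtain ⟨D', e', hx', he'⟩ := FinCov.exists_frame_nhd_of_rank (Euler.isFinLocFreeOfRank_one' hN) x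
  obtain ⟨b'⟩ := Euler.stalk_basis_of_frame he' hx'
  have hs : Function.Surjective (stalkLin φ x) := QCoh.stalkLin_surjective φ x
  let ψ := (b'.equivFun.trans b.equivFun.symm).toLinearMap ∘ₗ stalkLin φ x
  have hψ : Function.Surjective ψ := (b'.equivFun.trans b.equivFun.symm).surjective.comp hs
  haveI : Module.Finite (X.presheaf.stalk x) (M.presheaf.stalk x) := Module.Finite.of_basis b
  have hi := OrzechProperty.injective_of_surjective_endomorphism ψ hψ
  exact ⟨Function.Injective.of_comp (f := b'.equivFun.trans b.equivFun.symm) hi, hs⟩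

end Span

end GrothLib.Algz56
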